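import Cfsg.Agent.H163.E65.TI
import Cfsg.Agent.H681.ZerosPSL3
import Cfsg.Agent.LieExceptional.SingerCentralizer

/-!
# The Singer torus of `SL₃(125)` (S3650, task SINGER)
-/

set_option autoImplicit false
set_option linter.unusedSectionVars false

namespace Cfsg.Agent.H122.E65

open Subgroup Cfsg.Agent.H163.E65
open scoped MatrixGroups

universe u

/-- `SL(3,·)` and isomorphisms of fields -/
def slCongr {K F : Type*} [Field K] [Field F] (e : K ≃+* F) : SL(3, K) ≃* SL(3, F) where
  toFun := Matrix.SpecialLinearGroup.map e.toRingHom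
  invFun := Matrix.SpecialLinearGroup.map e.symm.toRingHom
  left_inv g := by
    apply Subtype.ext
    ext i j
    exact e.symm_apply_apply _
  right_inv g := by
    apply Subtype.ext
    ext i j
    exact e.apply_symm_apply _
  map_mul' g h := map_mul _ g h

theorem center_eq_bot {F : Type*} [Field F] [Fintype F] (hF : Fintype.card F = 125) :
    center SL(3, F) = ⊥ := by
  rw [eq_bot_iff_forall]
  intro A hA
  obtain ⟨r, hr3, hr⟩ := Matrix.SpecialLinearGroup.mem_center_iff.1 hA
  have hr0 : r ≠ 0 := by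
    rintro rfl
    simp at hr3
  have h1 : r ^ 124 = 1 := by
    have := FiniteField.pow_card_sub_one_eq_one r hr0
    rwa [hF] at this
  have h3 : r ^ 3 = 1 := by simpa using hr3
  have hr1 : r = 1 := by
    have h2 : r ^ 124 = (r ^ 3) ^ 41 * r := by ring
    rw [h3, one_pow, one_mul] at h2
    rw [← h2, h1]
  subst hr1
  apply Subtype.ext
  rw [← hr]
  simp

/-- `SL₃(125) = PSL₃(125)` -/
noncomputable def slPsl {F : Type*} [Field F] [Fintype F] (hF : Fintype.card F = 125) :
    SL(3, F) ≃* Matrix.ProjectiveSpecialLinearGroup (Fin 3) F :=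
  MulEquiv.ofBijective (QuotientGroup.mk' (center SL(3, F))) ⟨by
    rw [← MonoidHom.ker_eq_bot_iff, QuotientGroup.ker_mk', center_eq_bot hF], QuotientGroup.mk'_surjective _⟩

theorem exists_type {K : Type u} [Field K] [Fintype K] (hK : Fintype.card K = 125) :
    ∃ (F : Type) (_ : Field F) (_ : Fintype F), Fintype.card F = 125 ∧ Nonempty (K ≃+* F) := by
  let F := GaloisField 5 3
  have : Fact (Nat.Prime 5) := ⟨by norm_num⟩
  have : Finite F := Nat.finite_of_card_ne_zero (by rw [GaloisField.card 5 3 (by norm_num)]; norm_num)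
  let _ : Fintype F := Fintype.ofFinite F
  have hF : Fintype.card F = 125 := by
    rw [← Nat.card_eq_fintype_card, GaloisField.card 5 3 (by norm_num)]
    norm_num
  exact ⟨F, inferInstance, inferInstance, hF, ⟨FiniteField.ringEquivOfCardEq (by rw [hK, hF])⟩⟩

theorem card_sl {K : Type u} [Field K] [Fintype K] (hK : Fintype.card K = 125) :
    Nat.card SL(3, K) = 125 ^ 3 * (125 ^ 2 - 1) * (125 ^ 3 - 1) := by
  obtain ⟨F, _, _, hF, ⟨e⟩⟩ := exists_type hK
  have h := Cfsg.Agent.HKS.EndOrd.card_psl_three (F := F) (t := 124) (by rw [hF])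
  rw [← Nat.card_congr (slPsl hF).toEquiv, ← Nat.card_congr (slCongr e).toEquiv] at h
  norm_num at h ⊢
  exact h

/-- the torus and its centralizers -/
theorem exists_cc {K : Type u} [Field K] [Fintype K] (hK : Fintype.card K = 125) :
    ∃ T : Subgroup SL(3, K), Cfsg.Agent.H504.ZeroTI.CC T ∧ Nat.card T = 15751 := by
  obtain ⟨F, _, _, hF, ⟨e⟩⟩ := exists_type hK
  obtain ⟨A, hA, hc⟩ := Cfsg.Agent.H681.ZerosPSL3.exists_cc (F := F) (t := 124) (by rw [hF])
  let f : Matrix.ProjectiveSpecialLinearGroup (Fin 3) F ≃* SL(3, K) := (slPsl hF).symm.trans (slCongr e).symm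
  refine ⟨A.map f.toMonoidHom, Cfsg.Agent.H681.ZerosPSL3.cc_map f hA, ?_⟩
  have h1 : Nat.card (A.map f.toMonoidHom) = Nat.card A :=
    (Nat.card_congr (A.equivMapOfInjective _ f.injective).toEquiv).symm
  rw [h1]
  norm_num at hc
  exact hc

theorem not829 : ∀ d, 0 < d → d < 3 → ¬ 829 ∣ 125 ^ d - 1 := by
  intro d h0 h3
  interval_cases d <;> norm_num

instance fact829 : Fact (Nat.Prime 829) := ⟨by norm_num⟩

theorem mem_norm {G : Type*} [Group G] {T : Subgroup G} {z g : G} (hcz : centralizer ({z} : Set G) = T)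
    (hc : centralizer ({g * z * g⁻¹} : Set G) = T) : g ∈ normalizer (T : Set G) := by
  have h1 : ∀ x, x ∈ T ↔ x * z = z * x := fun x => by rw [← hcz, mem_centralizer_singleton_iff]
  have h2 : ∀ x, x ∈ T ↔ x * (g * z * g⁻¹) = g * z * g⁻¹ * x := fun x => by
    rw [← hc, mem_centralizer_singleton_iff]
  rw [mem_normalizer_iff]
  intro x
  rw [h1, h2]
  have e1 : g * x * g⁻¹ * (g * z * g⁻¹) = g * (x * z) * g⁻¹ := by group
  have e2 : g * z * g⁻¹ * (g * x * g⁻¹) = g * (z * x) * g⁻¹ := by group
  rw [e1, e2, mul_left_inj, mul_right_inj]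

theorem ti_of {H : Type u} [Group H] [Finite H] {T : Subgroup H} (hT : Cfsg.Agent.H504.ZeroTI.CC T)
    (hTc : Nat.card T = 15751) (hord : Nat.card H = 125 ^ 3 * (125 ^ 2 - 1) * (125 ^ 3 - 1)) {z : H} (hzT : z ∈ T)
    (hz : orderOf z = 829) (hup : Nat.card (normalizer (T : Set H)) ≤ 3 * 15751) : TI H T := by
  have hz1 : z ≠ 1 := by
    rintro rfl
    rw [orderOf_one] at hz
    norm_num at hz
  have hcz : centralizer ({z} : Set H) = T := hT.cent z hzT hz1
  -- `P = ⟨z⟩` is a Sylow subgroup
  have hPc : Nat.card (zpowers z) = 829 := by rw [Nat.card_zpowers, hz]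
  have hPT : zpowers z ≤ T := by rwa [zpowers_le]
  have hP1 : IsPGroup 829 (zpowers z) := IsPGroup.of_card (n := 1) (by rw [hPc, pow_one])
  have hidx : ¬ 829 ∣ (zpowers z).index := by
    intro h
    have h1 : 829 * 829 ∣ Nat.card H := by
      rw [← (zpowers z).card_mul_index, hPc]
      exact Nat.mul_dvd_mul_left _ h
    rw [hord] at h1
    norm_num at h1
  let P : Sylow 829 H := hP1.toSylow hidx
  have hPcoe : (P : Subgroup H) = zpowers z := rfl
  have h1 : Nat.card (Sylow 829 H) ≡ 1 [MOD 829] := card_sylow_modEq_one 829 _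
  rw [P.card_eq_index_normalizer] at h1
  -- `T ≤ N(P) ≤ N(T)`
  have hTM : T ≤ normalizer ((P : Subgroup H) : Set H) := by
    intro t ht
    have hc : ∀ y ∈ (P : Subgroup H), t * y * t⁻¹ = y := by
      intro y hy
      rw [hT.comm t ht y (hPT hy), mul_inv_cancel_right]
    rw [mem_normalizer_iff]
    intro x
    constructor
    · intro hx
      rw [hc x hx]
      exact hx
    · intro hx
      have h2 := hc _ hx
      have h3 : t * x * t⁻¹ = x := mul_left_cancel (mul_right_cancel h2)
      rwa [h3] at hx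
  have hMT : normalizer ((P : Subgroup H) : Set H) ≤ normalizer (T : Set H) := by
    intro g hg
    have hzP : g * z * g⁻¹ ∈ T := hPT ((mem_normalizer_iff.1 hg z).1 (mem_zpowers z))
    have hne : g * z * g⁻¹ ≠ 1 := by
      intro h
      exact hz1 (conj_eq_one_iff.1 h)
    exact mem_norm hcz (hT.cent _ hzP hne)
  -- the index of `T` in `N(P)`
  obtain ⟨k, hk⟩ : Nat.card T ∣ Nat.card (normalizer ((P : Subgroup H) : Set H)) := card_dvd_of_le hTM
  rw [hTc] at hk
  have hle : Nat.card (normalizer ((P : Subgroup H) : Set H)) ≤ 3 * 15751 := (card_le_of_le hMT).trans hup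
  have hk3 : k ≤ 3 := by omega
  have hMi := (normalizer ((P : Subgroup H) : Set H)).card_mul_index
  rw [hord, hk] at hMi
  have hkey : k * (normalizer ((P : Subgroup H) : Set H)).index = 125 ^ 3 * (125 ^ 2 - 1) * 124 := by
    have h3 : 15751 * (k * (normalizer ((P : Subgroup H) : Set H)).index) =
        15751 * (125 ^ 3 * (125 ^ 2 - 1) * 124) := by
      rw [← mul_assoc, hMi]
      norm_num
    exact Nat.eq_of_mul_eq_mul_left (by norm_num) h3
  have hk' : k = 3 := by
    have h3 : k * (normalizer ((P : Subgroup H) : Set H)).index ≡ k * 1 [MOD 829] := Nat.ModEq.mul_left k h1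
    rw [hkey, mul_one] at h3
    have h4 : (125 ^ 3 * (125 ^ 2 - 1) * 124) % 829 = k % 829 := h3
    norm_num at h4
    omega
  refine ⟨hT.comm, hTc, hT.cent, le_antisymm hup ?_, hord⟩
  calc 3 * 15751 = Nat.card (normalizer ((P : Subgroup H) : Set H)) := by rw [hk, hk']
    _ ≤ _ := card_le_of_le hMT

/-- **the Singer torus** -/
theorem exists_ti {K : Type u} [Field K] [Fintype K] (hK : Fintype.card K = 125) :
    ∃ T : Subgroup SL(3, K), TI SL(3, K) T := by
  obtain ⟨T, hT, hTc⟩ := exists_cc hK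
  have hfin : Finite SL(3, K) := inferInstance
  have hord := card_sl hK
  -- an element of order 829
  obtain ⟨⟨z, hzT⟩, hz⟩ := exists_prime_orderOf_dvd_card' (G := T) 829 (by rw [hTc]; norm_num)
  rw [Subgroup.orderOf_mk] at hz
  have hz1 : z ≠ 1 := by
    rintro rfl
    rw [orderOf_one] at hz
    norm_num at hz
  have hcz : centralizer ({z} : Set SL(3, K)) = T := hT.cent z hzT hz1
  -- the upper bound
  let φ : SL(3, K) →* Module.End K (Fin 3 → K) :=
    { toFun := fun g => Matrix.toLin' g.1
      map_one' := Matrix.toLin'_one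
      map_mul' := fun g h => Matrix.toLin'_mul _ _ }
  have hφ : Function.Injective φ := fun g h hgh => Subtype.ext (Matrix.toLin'.injective hgh)
  have hfr : Module.finrank K (Fin 3 → K) = 3 := Module.finrank_fin_fun K
  have hup := Cfsg.Agent.LieExceptional.SingerCentralizer.card_normalizer_centralizer_le φ hφ fact829.out hz
    (by rw [hfr, Nat.card_eq_fintype_card, hK]; norm_num)
    (by rw [hfr, Nat.card_eq_fintype_card, hK]; exact not829)
  rw [hcz, hfr, hTc] at hup
  exact ⟨T, ti_of hT hTc hord hzT hz hup⟩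

end Cfsg.Agent.H122.E65
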